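import Cfsg.Agent.Lib.TC.Enc

namespace Cfsg.Agent.Lib.Schur.U62.S2.CT0

open Cfsg.Agent.Lib.TC.Enc

set_option maxRecDepth 100000

/-- A part of the chunks of the certificate. -/
noncomputable def tree : Tr Nat :=
(Tr.leaf (nat_lit 0x9b00c451be1dedf0d7ed814f7c2a3be10fdf066ef827a80c44db5fdcdafc06f80bb5bd17b5f49daf83ed7b5a00c449ade1ad6ee96b76036bcdba5cc5d6ea1eb743980c445a5c58d2e08696f2b4b701adcacced80e96db880c4559dab0c6c8ee7696f3b4339d9c0d2d6ae565b800c455958b0c2baee5616f2b033957d7cabd5e766d780c4637d540cec73e35b971ad478d661c6b0fe156d680c4636d380cab93e153970a94785461ba9f5e3571680c4018d516be9875f4b22fa5097d242be915db47d580c4635cfe9ba8b3dd4496ea1c76506cc2a0fdd403580c40185358b67a85b3c2ad9d8d6ceacae7205f46d480c4634cc69b26f3d93696a9a5b750a1b266fd932b400c40174fb0a254ed72f6eb97334cb00b670ad72bd300c463348a9aa513cf26bac9ac754961aa48fd523b280c40164c309636ed3206e68f5b5cb57a63aad31c5280c44944640ae52951183288bdb2c505a22c1d115d200c463243699e257d52796788c73c4219e1efcf0eb100c401548708a0cec90aba98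fb3342579a10acd077100c44d2c100a634a4b03ba27f81444c98e023cb00b080c4013c33085f37cd0b6e47eb323f1791f6ac8fa6f80c44d1bddc8deca46f5b9f78971bd2c96043c0f22f80c44513bc09a0a842ed0257f0d13b2c7dd40c4eb2f00c4450ba0091f17c4ee2a1738d0b9ac79c80c2e56e80c44d0389c81c2a40e0b9d6e97037c981bd5c6f34e00c448fb6da7db493cd8023785ae354089d21bad64d00c448f34da79a57bed931e68dad338085c61b6cf4c80c448eb31a7596936c90206e5acb1c575915bed70c80c440e31567188734c221c6080fb50271815b2bf4b80c448daf5a6d797baca31b5ddabae456d755bcd00b80c440d2dd6696d7b8c32185a00f334269675aeb22b00c444cac18655e82ead2995600eb1ac5956038be0a80c440c2a566150730a7b9a5a88c2982614b5aaa42a00c444ba8985d437b2ae2954f80dae2c513c034b1a980c454b27304d2cea89a6d64cb2b26006554aac972900c444aa518552682a92b97500caa46c4920030a3a880c454a23b045137ac9b6d24632a22c05d3aaa88ac800c46282040592b3a28695342c69a1214d06fa682a700c45491ff038f4ea47eb9446b279f00551eaa47bc680c46269cc051117a68794e3bc689da144eafa2748680c4009a01e40e379a6c4d0382281bcf40dc6a06da600c45479ab030cae9e696cf345a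91f573ccea9e66c580c4625978048f339c63b913c466186138c0f9c5f6580c40089c9c34b80206bb8b2c16696c934b439a59c480c462494403cc93985694c2ada718a128a6f98524480c4007175a2c9e9164e00d2bda492c52c9a1964cc380c462390e928933944894a23c6511ac30a8f90442380c400614182482812402891f80592ac1c7a0923ec300c46230da920773903a9481cc640e21206f59445a280c400510b0145ee8e346c719b238c802478a8c30a200c40040d701052e8c2d6c6163230ad7185558e310200c440289c01c5c70a262051288289021447588222180c4442080018508081f2840f0c2076c0c3800a214100c4481869a0c32906183030bda105401036186166080c44c104dc0824a0411b8107001850908203840f8000c4500831e04177800700206a20828f0412682080000c46e00176000800206d4001e8000b3000390000))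

end Cfsg.Agent.Lib.Schur.U62.S2.CT0
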